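import Mathlib

/-! Sylow subgroups inside point stabilisers: counting. -/

set_option autoImplicit false
set_option linter.unusedSectionVars false

namespace Cfsg.Agent.SylFix

open MulAction

variable {G : Type*} [Group G] [Finite G] {p : ℕ} [Fact p.Prime]

section subgroups

/-- The Sylow subgroups inside a subgroup containing one of them correspond to its own Sylow subgroups. -/
theorem card_sylow_sub {K : Subgroup G} {R : Sylow p G} (hR : (R : Subgroup G) ≤ K) :
    Nat.card (Sylow p ↥K) = Nat.card {Q : Sylow p G // (Q : Subgroup G) ≤ K} := by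
  symm
  refine Nat.card_eq_of_bijective (fun Q : {Q : Sylow p G // (Q : Subgroup G) ≤ K} => Q.1.subtype Q.2) ⟨?_, ?_⟩
  · rintro ⟨Q, hQ⟩ ⟨Q', hQ'⟩ h
    exact Subtype.ext (Sylow.subtype_injective h)
  · intro T
    obtain ⟨k, hk⟩ := MulAction.exists_smul_eq (↥K) (R.subtype hR) T
    refine ⟨⟨k • R, Sylow.smul_le hR k⟩, ?_⟩
    rw [← hk, Sylow.smul_subtype]

theorem conj_within {K : Subgroup G} {Q R : Sylow p G} (hQ : (Q : Subgroup G) ≤ K) (hR : (R : Subgroup G) ≤ K) :
    ∃ k ∈ K, k • Q = R := by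
  obtain ⟨k, hk⟩ := MulAction.exists_smul_eq (↥K) (Q.subtype hQ) (R.subtype hR)
  refine ⟨k, k.2, ?_⟩
  rw [Sylow.smul_subtype] at hk
  exact Sylow.subtype_injective hk

theorem le_of_normalizes {K : Subgroup G} {R : Sylow p G} (hR : (R : Subgroup G) ≤ K) {Q : Sylow p G}
    (hQ : (Q : Subgroup G) ≤ Subgroup.normalizer (K : Set G)) : (Q : Subgroup G) ≤ K := by
  obtain ⟨k, hk, e⟩ := conj_within (hR.trans Subgroup.le_normalizer) hQ
  intro q hq
  rw [← e, Sylow.coe_subgroup_smul, Subgroup.mem_pointwise_smul_iff_inv_smul_mem] at hq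
  have hq' := hR hq
  rw [MulAut.smul_def, MulAut.conj_inv_apply] at hq'
  have := (Subgroup.mem_normalizer_iff.1 hk _).1 hq'
  rwa [show k * (k⁻¹ * q * k) * k⁻¹ = q by group] at this

end subgroups

variable {Ω : Type*} [MulAction G Ω] [Fintype Ω]

open scoped Classical in
/-- The fixed points of a Sylow subgroup. -/
noncomputable def fx (Q : Sylow p G) : Finset Ω :=
  Finset.univ.filter fun z => (Q : Subgroup G) ≤ stabilizer G z

open scoped Classical in
/-- The Sylow subgroups fixing a set. -/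
noncomputable def SS (A : Finset Ω) : Finset (Sylow p G) :=
  letI := Fintype.ofFinite (Sylow p G)
  Finset.univ.filter fun Q => A ⊆ fx Q

/-- The group they generate. -/
noncomputable def DD (p : ℕ) [Fact p.Prime] (A : Finset Ω) : Subgroup G :=
  ⨆ Q ∈ SS (G := G) (p := p) A, (Q : Subgroup G)

open scoped Classical in
/-- The closure of a set. -/
noncomputable def cl (p : ℕ) [Fact p.Prime] (G : Type*) [Group G] [Finite G] [MulAction G Ω] (A : Finset Ω) :
    Finset Ω :=
  Finset.univ.filter fun z => ∀ Q ∈ SS (G := G) (p := p) A, z ∈ fx Q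

variable {A B : Finset Ω} {Q R : Sylow p G}

theorem mem_fx {z : Ω} : z ∈ fx Q ↔ (Q : Subgroup G) ≤ stabilizer G z := by simp [fx]

theorem mem_SS : Q ∈ SS A ↔ A ⊆ fx Q := by simp [SS]

theorem mem_cl {z : Ω} : z ∈ cl p G A ↔ ∀ Q ∈ SS (G := G) (p := p) A, z ∈ fx Q := by simp [cl]

theorem subset_cl : A ⊆ cl p G A := fun _ hz => mem_cl.2 fun _ hQ => mem_SS.1 hQ hz

theorem SS_anti (h : A ⊆ B) : SS (G := G) (p := p) B ⊆ SS A := fun _ hQ => mem_SS.2 (h.trans (mem_SS.1 hQ))

theorem SS_cl : SS (G := G) (p := p) (cl p G A) = SS A :=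
  (SS_anti subset_cl).antisymm fun Q hQ => mem_SS.2 fun _ hz => mem_cl.1 hz Q hQ

theorem cl_congr (h : SS (G := G) (p := p) A = SS B) : cl p G A = cl p G B := by
  ext z; simp [mem_cl, h]

theorem cl_mono (h : A ⊆ B) : cl p G A ⊆ cl p G B := fun _ hz => mem_cl.2 fun Q hQ => mem_cl.1 hz Q (SS_anti h hQ)

theorem le_DD (hQ : Q ∈ SS A) : (Q : Subgroup G) ≤ DD p A := le_iSup₂_of_le Q hQ le_rfl

theorem DD_fix {d : G} (hd : d ∈ DD p A) {z : Ω} (hz : z ∈ cl p G A) : d • z = z := by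
  have : DD p A ≤ stabilizer G z := iSup₂_le fun Q hQ => mem_fx.1 (mem_cl.1 hz Q hQ)
  exact this hd

theorem mem_SS_of_le (h : (Q : Subgroup G) ≤ DD p A) : Q ∈ SS A :=
  mem_SS.2 fun _ ha => mem_fx.2 (h.trans fun _ hd => DD_fix hd (subset_cl ha))

theorem DD_anti (h : A ⊆ B) : DD (G := G) p B ≤ DD p A := iSup₂_le fun _ hQ => le_DD (SS_anti h hQ)

theorem smul_mem_fx {g : G} {z : Ω} (h : z ∈ fx Q) : g • z ∈ fx (g • Q) := by
  rw [mem_fx] at h ⊢
  intro q hq
  rw [Sylow.coe_subgroup_smul, Subgroup.mem_pointwise_smul_iff_inv_smul_mem,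
    MulAut.smul_def, MulAut.conj_inv_apply] at hq
  have := h hq
  rw [mem_stabilizer_iff, mul_smul, mul_smul, inv_smul_eq_iff] at this
  exact this

theorem fx_smul_iff {g : G} {z : Ω} : g • z ∈ fx (g • Q) ↔ z ∈ fx Q :=
  ⟨fun h => by simpa using smul_mem_fx (g := g⁻¹) h, smul_mem_fx⟩

variable [DecidableEq Ω]

/-- Translation. -/
abbrev tr (g : G) (A : Finset Ω) : Finset Ω := A.image (g • ·)

theorem mem_tr {g : G} {z : Ω} : z ∈ tr g A ↔ g⁻¹ • z ∈ A := by
  simp only [tr, Finset.mem_image]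
  exact ⟨fun ⟨u, hu, e⟩ => by rw [← e, inv_smul_smul]; exact hu, fun h => ⟨_, h, smul_inv_smul g z⟩⟩

theorem tr_insert (g : G) (z : Ω) : tr g (insert z A) = insert (g • z) (tr g A) := Finset.image_insert _ _ _

theorem tr_inter (g : G) : tr g (A ∩ B) = tr g A ∩ tr g B :=
  Finset.image_inter _ _ (MulAction.injective g)

theorem card_tr (g : G) : (tr g A).card = A.card := Finset.card_image_of_injective _ (MulAction.injective g)

theorem tr_eq_self {g : G} (h : ∀ z ∈ A, g • z = z) : tr g A = A := by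
  ext z
  simp only [tr, Finset.mem_image]
  exact ⟨fun ⟨u, hu, e⟩ => by rw [← e, h u hu]; exact hu, fun hz => ⟨z, hz, h z hz⟩⟩

theorem mem_SS_tr {g : G} : g • Q ∈ SS (tr g A) ↔ Q ∈ SS A := by
  simp only [mem_SS, Finset.subset_iff, tr, Finset.forall_mem_image, fx_smul_iff]

theorem card_SS_tr (g : G) : (SS (G := G) (p := p) (tr g A)).card = (SS (G := G) (p := p) A).card := by
  refine (Finset.card_bij (fun Q _ => g • Q) (fun Q hQ => mem_SS_tr.2 hQ)
    (fun _ _ _ _ e => MulAction.injective g e) fun R hR => ⟨g⁻¹ • R, ?_, smul_inv_smul g R⟩).symm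
  rwa [← mem_SS_tr (g := g), smul_inv_smul]

theorem cl_tr (g : G) : cl p G (tr g A) = tr g (cl p G A) := by
  ext z
  rw [mem_tr, mem_cl, mem_cl]
  constructor
  · intro h Q hQ
    have := h _ (mem_SS_tr (g := g).2 hQ)
    rwa [← smul_inv_smul g z, fx_smul_iff] at this
  · intro h R hR
    rw [← smul_inv_smul g R] at hR ⊢
    rw [← smul_inv_smul g z, fx_smul_iff]
    exact h _ (mem_SS_tr.1 hR)

theorem conj_mem_DD {g d : G} (hd : d ∈ DD p A) : g * d * g⁻¹ ∈ DD p (tr g A) := by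
  have : DD p A ≤ (DD p (tr g A)).comap (MulAut.conj g).toMonoidHom := iSup₂_le fun Q hQ => fun q hq => by
    rw [Subgroup.mem_comap]
    refine le_DD (mem_SS_tr (g := g).2 hQ) ?_
    rw [Sylow.coe_subgroup_smul, Subgroup.mem_pointwise_smul_iff_inv_smul_mem]
    simpa [mul_assoc] using hq
  simpa using this hd

theorem mem_DD_tr {g d : G} (hd : d ∈ DD p (tr g A)) : g⁻¹ * d * g ∈ DD p A := by
  have := conj_mem_DD (g := g⁻¹) hd
  rwa [show tr g⁻¹ (tr g A) = A by ext z; simp [mem_tr], inv_inv] at this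

/-- Invariance of a set under the group of a set. -/
def Inv (p : ℕ) [Fact p.Prime] (G : Type*) [Group G] [Finite G] [MulAction G Ω] (A B : Finset Ω) : Prop :=
  ∀ d ∈ DD (G := G) p A, ∀ z ∈ B, d • z ∈ B

theorem fx_count_eq (hB : Inv p G A B) (hQ : Q ∈ SS A) (hR : R ∈ SS A) :
    (B ∩ fx Q).card = (B ∩ fx R).card := by
  obtain ⟨k, hk, e⟩ := conj_within (le_DD hQ) (le_DD hR)
  have : tr k (B ∩ fx Q) = B ∩ fx R := by
    ext z
    rw [mem_tr, Finset.mem_inter, Finset.mem_inter, ← e]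
    constructor
    · rintro ⟨h1, h2⟩
      exact ⟨by simpa using hB k hk _ h1, by simpa using smul_mem_fx (g := k) h2⟩
    · rintro ⟨h1, h2⟩
      exact ⟨hB _ (inv_mem hk) _ h1, by simpa using smul_mem_fx (g := k⁻¹) h2⟩
  rw [← this, card_tr]

theorem SS_insert (z : Ω) : SS (G := G) (p := p) (insert z A) = (SS A).filter fun Q => z ∈ fx Q := by
  ext Q; simp [mem_SS, Finset.insert_subset_iff, and_comm]

theorem double_count (hB : Inv p G A B) (hQ : Q ∈ SS A) :
    ∑ z ∈ B, (SS (G := G) (p := p) (insert z A)).card = (SS (G := G) (p := p) A).card * (B ∩ fx Q).card := by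
  classical
  simp_rw [SS_insert, Finset.card_filter]
  rw [Finset.sum_comm, ← smul_eq_mul, ← Finset.sum_const]
  refine Finset.sum_congr rfl fun R hR => ?_
  rw [fx_count_eq hB hQ hR, ← Finset.card_filter, Finset.filter_mem_eq_inter]

/-- The weight of a set with respect to a Sylow subgroup. -/
noncomputable def wt (Q : Sylow p G) (B : Finset Ω) : ℤ :=
  ((p : ℤ) - 1) * B.card - (2 * (p : ℤ) - 1) * (B ∩ fx Q).card

theorem wt_split (h : B ⊆ A) : wt Q A = wt Q B + wt Q (A \ B) := by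
  have e1 := Finset.card_sdiff_add_card_eq_card h
  have e2 : (A ∩ fx Q).card = (B ∩ fx Q).card + ((A \ B) ∩ fx Q).card := by
    rw [← Finset.card_union_of_disjoint]
    · congr 1; ext z; simp only [Finset.mem_inter, Finset.mem_union, Finset.mem_sdiff]
      constructor
      · rintro ⟨h1, h2⟩; tauto
      · rintro (⟨h1, h2⟩ | ⟨⟨h1, -⟩, h2⟩)
        exacts [⟨h h1, h2⟩, ⟨h1, h2⟩]
    · rw [Finset.disjoint_left]; simp only [Finset.mem_inter, Finset.mem_sdiff]; tauto
  rw [wt, wt, wt, e2, ← e1]; push_cast; ring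

/-- The inductive hypothesis: the bound in proper subgroups. -/
def IHyp (p : ℕ) [Fact p.Prime] (G : Type*) [Group G] : Prop :=
  ∀ K H : Subgroup G, K ≠ ⊤ → (∃ Q : Sylow p G, (Q : Subgroup G) ≤ K ∧ ¬ (Q : Subgroup G) ≤ H) →
    (2 * p - 1) * Nat.card {Q : Sylow p G // (Q : Subgroup G) ≤ K ∧ (Q : Subgroup G) ≤ H} ≤
      (p - 1) * Nat.card {Q : Sylow p G // (Q : Subgroup G) ≤ K}

theorem pointwise (IH : IHyp p G) (hst : ∀ a : Ω, stabilizer G a ≠ ⊤) (hA : A.Nonempty) {z : Ω}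
    (hz : z ∉ cl p G A) :
    (2 * (p : ℤ) - 1) * (SS (G := G) (p := p) (insert z A)).card ≤
      ((p : ℤ) - 1) * (SS (G := G) (p := p) A).card := by
  classical
  rw [mem_cl] at hz
  push Not at hz
  obtain ⟨Q, hQ, hQz⟩ := hz
  obtain ⟨a, ha⟩ := hA
  have hne : DD p A ≠ (⊤ : Subgroup G) := fun e =>
    hst a (top_unique (e ▸ fun d hd => DD_fix hd (subset_cl ha)))
  letI := Fintype.ofFinite (Sylow p G)
  have h := IH (DD p A) (stabilizer G z) hne ⟨Q, le_DD hQ, fun h => hQz (mem_fx.2 h)⟩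
  have hp : 1 ≤ p := (Fact.out : p.Prime).one_lt.le
  have e1 : Nat.card {R : Sylow p G // (R : Subgroup G) ≤ DD p A} = (SS (G := G) (p := p) A).card := by
    rw [Nat.card_eq_fintype_card, Fintype.card_subtype]
    congr 1; ext R; simp only [Finset.mem_filter, Finset.mem_univ, true_and]
    exact ⟨mem_SS_of_le, le_DD⟩
  have e2 : Nat.card {R : Sylow p G // (R : Subgroup G) ≤ DD p A ∧ (R : Subgroup G) ≤ stabilizer G z} =
      (SS (G := G) (p := p) (insert z A)).card := by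
    rw [Nat.card_eq_fintype_card, Fintype.card_subtype, SS_insert]
    congr 1; ext R; simp only [Finset.mem_filter, Finset.mem_univ, true_and, mem_fx]
    exact ⟨fun h => ⟨mem_SS_of_le h.1, h.2⟩, fun h => ⟨le_DD h.1, h.2⟩⟩
  rw [e1, e2] at h
  zify [hp, (by omega : 1 ≤ 2 * p)] at h
  linarith

theorem wt_nonneg (IH : IHyp p G) (hst : ∀ a : Ω, stabilizer G a ≠ ⊤) (hA : A.Nonempty)
    (hQ : Q ∈ SS A) (hB : Inv p G A B) (hdis : Disjoint B (cl p G A)) : 0 ≤ wt Q B := by
  have hs : 0 < (SS (G := G) (p := p) A).card := Finset.card_pos.2 ⟨Q, hQ⟩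
  have h : ∑ z ∈ B, (2 * (p : ℤ) - 1) * (SS (G := G) (p := p) (insert z A)).card ≤
      ∑ _z ∈ B, ((p : ℤ) - 1) * (SS (G := G) (p := p) A).card :=
    Finset.sum_le_sum fun z hz => pointwise IH hst hA (Finset.disjoint_left.1 hdis hz)
  have hd := congrArg (fun m : ℕ => (m : ℤ)) (double_count hB hQ)
  simp only [Nat.cast_sum, Nat.cast_mul] at hd
  rw [← Finset.mul_sum, hd, Finset.sum_const, nsmul_eq_mul] at h
  rw [wt]
  nlinarith

end Cfsg.Agent.SylFix
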