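import Mathlib
import Cfsg.Agent.Lib.Recog.SylFix.Basic

/-! Sylow subgroups inside point stabilisers: the chain along an orbit of length `p`. -/

set_option autoImplicit false
set_option linter.unusedSectionVars false
set_option maxHeartbeats 1000000

namespace Cfsg.Agent.SylFix

open MulAction

variable {G : Type*} [Group G] [Finite G] {p : ℕ} [Fact p.Prime]
variable {Ω : Type*} [MulAction G Ω] [Fintype Ω] [DecidableEq Ω]

/-- The hypothetical counterexample. -/
structure Bad (p : ℕ) [Fact p.Prime] (G Ω : Type*) [Group G] [Finite G] [MulAction G Ω] [Fintype Ω]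
    [DecidableEq Ω] : Prop where
  ih : IHyp p G
  trans : IsPretransitive G Ω
  max : ∀ a : Ω, IsCoatom (stabilizer G a)
  notall : ∀ a : Ω, ∃ Q : Sylow p G, ¬ (Q : Subgroup G) ≤ stabilizer G a
  some' : ∀ a : Ω, ∃ Q : Sylow p G, (Q : Subgroup G) ≤ stabilizer G a
  bad : ∀ Q : Sylow p G, ((p : ℤ) - 1) * Fintype.card Ω < (2 * (p : ℤ) - 1) * (fx (Ω := Ω) Q).card

variable (X : Bad p G Ω)
include X

theorem Bad.proper (a : Ω) : stabilizer G a ≠ ⊤ := (X.max a).1

theorem Bad.SS_single (a : Ω) : (SS (G := G) (p := p) ({a} : Finset Ω)).Nonempty := by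
  obtain ⟨Q, hQ⟩ := X.some' a
  exact ⟨Q, mem_SS.2 (Finset.singleton_subset_iff.2 (mem_fx.2 hQ))⟩

theorem Bad.cl_single (a : Ω) : cl p G ({a} : Finset Ω) = {a} := by
  refine Finset.Subset.antisymm (fun z hz => ?_) subset_cl
  rw [Finset.mem_singleton]
  haveI := X.trans
  obtain ⟨g, rfl⟩ := exists_smul_eq G a z
  have hsub : SS (G := G) (p := p) ({a} : Finset Ω) ⊆ SS {g • a} := fun Q hQ =>
    mem_SS.2 (Finset.singleton_subset_iff.2 (mem_cl.1 hz Q hQ))
  have hcard : (SS (G := G) (p := p) ({g • a} : Finset Ω)).card = (SS (G := G) (p := p) ({a} : Finset Ω)).card := by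
    rw [← card_SS_tr (A := {a}) g, tr, Finset.image_singleton]
  have heq := Finset.eq_of_subset_of_card_le hsub hcard.le
  have hD : DD (G := G) p {g • a} = DD (G := G) p {a} := by rw [DD, DD, heq]
  have conj : ∀ h : G, h • a = a ∨ h = g → h ∈ Subgroup.normalizer (DD (G := G) p {a} : Set G) := by
    intro h hh
    have htr : DD (G := G) p (tr h {a}) = DD (G := G) p {a} := by
      rcases hh with hh | rfl
      · rw [tr, Finset.image_singleton, hh]
      · rw [tr, Finset.image_singleton, hD]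
    rw [Subgroup.mem_normalizer_iff]
    refine fun d => ⟨fun hd => ?_, fun hd => ?_⟩
    · rw [← htr]; exact conj_mem_DD hd
    · rw [← htr] at hd
      have := mem_DD_tr hd
      rwa [show h⁻¹ * (h * d * h⁻¹) * h = d by group] at this
  have hle : stabilizer G a ≤ Subgroup.normalizer (DD (G := G) p {a} : Set G) := fun h hh => conj h (Or.inl hh)
  rcases hle.eq_or_lt with e | e
  · have := conj g (Or.inr rfl)
    rw [← e] at this
    exact this
  · exfalso
    have htop := (X.max a).2 _ e
    obtain ⟨Q, hQ⟩ := X.notall a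
    obtain ⟨R, hR⟩ := X.SS_single a
    refine hQ (le_trans (le_of_normalizes (le_DD hR) (K := DD (G := G) p {a}) (by rw [htop]; exact le_top)) ?_)
    exact fun d hd => DD_fix hd (subset_cl (Finset.mem_singleton_self a))

theorem Bad.inv_erase (a : Ω) : Inv p G {a} (Finset.univ.erase a) := fun d hd z hz => by
  rw [Finset.mem_erase] at hz ⊢
  refine ⟨fun e => hz.1 ?_, Finset.mem_univ _⟩
  have := DD_fix hd (subset_cl (Finset.mem_singleton_self a))
  exact MulAction.injective d (e.trans this.symm)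

/-- Every pair lies in the fixed set of a Sylow subgroup, with constant multiplicity. -/
theorem Bad.pair {a z : Ω} (hz : z ≠ a) :
    (2 * (p : ℤ) - 1) * (SS (G := G) (p := p) (insert z {a} : Finset Ω)).card =
      ((p : ℤ) - 1) * (SS (G := G) (p := p) ({a} : Finset Ω)).card := by
  obtain ⟨Q, hQ⟩ := X.SS_single a
  set S1 : ℤ := ((SS (G := G) (p := p) ({a} : Finset Ω)).card : ℤ)
  set t : Ω → ℤ := fun u => ((p : ℤ) - 1) * S1 -
    (2 * (p : ℤ) - 1) * (SS (G := G) (p := p) (insert u {a} : Finset Ω)).card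
  have hnn : ∀ u ∈ Finset.univ.erase a, 0 ≤ t u := fun u hu => by
    have : u ∉ cl p G ({a} : Finset Ω) := by
      rw [X.cl_single, Finset.mem_singleton]; exact (Finset.mem_erase.1 hu).1
    have := pointwise X.ih X.proper (Finset.singleton_nonempty a) this
    simp only [t, S1]; linarith
  have hsum : ∑ u ∈ Finset.univ.erase a, t u = S1 * wt Q (Finset.univ.erase a) := by
    have hd := congrArg (fun m : ℕ => (m : ℤ)) (double_count (X.inv_erase a) hQ)
    simp only [Nat.cast_sum, Nat.cast_mul] at hd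
    simp only [t, S1, wt]
    rw [Finset.sum_sub_distrib, Finset.sum_const, nsmul_eq_mul, ← Finset.mul_sum, hd]
    ring
  have hw0 : wt Q (Finset.univ.erase a) = 0 := by
    have haQ : a ∈ fx Q := mem_SS.1 hQ (Finset.mem_singleton_self a)
    have hdis : Disjoint (Finset.univ.erase a) (cl p G ({a} : Finset Ω)) := by
      rw [X.cl_single]; simp
    have h0 := wt_nonneg X.ih X.proper (Finset.singleton_nonempty a) hQ (X.inv_erase a) hdis
    have hsplit := wt_split (Q := Q) (Finset.subset_univ ({a} : Finset Ω))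
    rw [Finset.sdiff_singleton_eq_erase] at hsplit
    have hwa : wt Q ({a} : Finset Ω) = -(p : ℤ) := by
      rw [wt, Finset.singleton_inter_of_mem haQ]; simp; ring
    have hbad := X.bad Q
    have huniv : wt Q (Finset.univ : Finset Ω) =
        ((p : ℤ) - 1) * Fintype.card Ω - (2 * (p : ℤ) - 1) * (fx (Ω := Ω) Q).card := by
      rw [wt, Finset.univ_inter, Finset.card_univ]
    have hmod : Nat.card Ω ≡ Nat.card (fixedPoints (↥(Q : Subgroup G)) Ω) [MOD p] :=
      Q.isPGroup'.card_modEq_card_fixedPoints Ω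
    have hfix : Nat.card (fixedPoints (↥(Q : Subgroup G)) Ω) = (fx (Ω := Ω) Q).card := by
      classical
      rw [Nat.card_eq_fintype_card, ← Set.toFinset_card]
      congr 1; ext u
      simp only [Set.mem_toFinset, mem_fixedPoints, mem_fx]
      exact ⟨fun h q hq => h ⟨q, hq⟩, fun h q => h q.2⟩
    rw [hfix, Nat.card_eq_fintype_card, ← Int.natCast_modEq_iff, Int.modEq_iff_dvd] at hmod
    obtain ⟨c, hc⟩ := hmod
    set e := wt Q (Finset.univ.erase a) with he
    have hdvd : (p : ℤ) ∣ e := by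
      refine ⟨(Fintype.card Ω : ℤ) - 2 * (fx (Ω := Ω) Q).card + c + 1, ?_⟩
      linear_combination huniv - hsplit - hwa + hc
    obtain ⟨d, hd⟩ := hdvd
    have hp : (0 : ℤ) < p := by exact_mod_cast (Fact.out : p.Prime).pos
    have hlt : e < p := by linarith
    have : d = 0 := by nlinarith
    rw [hd, this, mul_zero]
  rw [hw0, mul_zero, Finset.sum_eq_zero_iff_of_nonneg hnn] at hsum
  have := hsum z (Finset.mem_erase.2 ⟨hz, Finset.mem_univ _⟩)
  simp only [t, S1] at this
  linarith

theorem Bad.pair_pos {a z : Ω} (hz : z ≠ a) : 0 < (SS (G := G) (p := p) (insert z {a} : Finset Ω)).card := by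
  rw [Nat.pos_iff_ne_zero]
  intro e
  have h := X.pair hz
  have h2 := (Fact.out : p.Prime).two_le
  have h3 : 0 < (SS (G := G) (p := p) ({a} : Finset Ω)).card := Finset.card_pos.2 (X.SS_single a)
  rw [e, Nat.cast_zero, mul_zero] at h
  have : (0 : ℤ) < ((p : ℤ) - 1) * (SS (G := G) (p := p) ({a} : Finset Ω)).card :=
    mul_pos (by omega) (by exact_mod_cast h3)
  omega

omit X in
/-- A step of the orbit. -/
def pt (x : G) (a : Ω) (j : ℕ) : Ω := x ^ j • a

omit X in
/-- An initial segment of the orbit. -/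
def seg (x : G) (a : Ω) (i : ℕ) : Finset Ω := (Finset.range i).image (pt x a)

omit X in
theorem tr_seg_subset (x : G) (a : Ω) (i : ℕ) : tr x (seg x a i) ⊆ seg x a (i + 1) := by
  intro z hz
  simp only [tr, seg, Finset.mem_image, Finset.mem_range] at hz ⊢
  obtain ⟨_, ⟨j, hj, rfl⟩, rfl⟩ := hz
  exact ⟨j + 1, by omega, by simp [pt, pow_succ', mul_smul]⟩

omit X in
theorem seg_succ (x : G) (a : Ω) (i : ℕ) : seg x a (i + 1) = insert (pt x a i) (seg x a i) := by
  simp [seg, Finset.range_add_one, Finset.image_insert]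

omit X in
theorem insert_tr_seg (x : G) (a : Ω) (i : ℕ) :
    insert (pt x a (i + 1)) (tr x (seg x a i)) = tr x (seg x a (i + 1)) := by
  rw [seg_succ, tr_insert]; simp [pt, pow_succ', mul_smul]

omit X in
/-- The state of the induction. -/
def Good (p : ℕ) [Fact p.Prime] (x : G) (a : Ω) (i : ℕ) : Prop :=
  0 < (SS (G := G) (p := p) (seg x a (i + 1))).card ∧
    (pt x a i ∈ cl p G (seg x a i) ∨ ∃ U : Finset Ω, Inv p G (seg x a i) U ∧ Disjoint U (cl p G (seg x a i)) ∧
      pt x a i ∈ U ∧
      (∀ u ∈ U, ∃ d ∈ DD (G := G) p (seg x a i), cl p G (insert u (seg x a i)) = tr d (cl p G (seg x a (i + 1)))) ∧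
      ∀ Q ∈ SS (G := G) (p := p) (seg x a i),
        wt Q U ≤ (p : ℤ) * ((i : ℤ) - 1) * (cl p G (seg x a (i + 1)) ∩ U).card)

open scoped Classical in
omit X in
/-- The translates of a set under a group. -/
noncomputable def span (D : Subgroup G) (K : Finset Ω) : Finset Ω :=
  Finset.univ.filter fun u => ∃ d ∈ D, ∃ k ∈ K, u = d • k

omit X in
theorem mem_span {D : Subgroup G} {K : Finset Ω} {u : Ω} : u ∈ span D K ↔ ∃ d ∈ D, ∃ k ∈ K, u = d • k := by
  simp [span]

omit X in
theorem inv_span (A K : Finset Ω) : Inv p G A (span (DD (G := G) p A) K) := fun d hd z hz => by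
  obtain ⟨e, he, k, hk, rfl⟩ := mem_span.1 hz
  exact mem_span.2 ⟨d * e, mul_mem hd he, k, hk, (mul_smul _ _ _).symm⟩

omit X in
theorem subset_span (D : Subgroup G) (K : Finset Ω) : K ⊆ span D K := fun k hk =>
  mem_span.2 ⟨1, one_mem _, k, hk, (one_smul _ _).symm⟩

theorem Bad.good_one {x : G} {a : Ω} (hx : x • a ≠ a) : Good p x a 1 := by
  have h2 : seg x a 2 = insert (pt x a 1) {a} := by
    rw [seg_succ]; simp [seg, pt]
  have h1 : seg x a 1 = {a} := by simp [seg, pt]
  have hne : pt x a 1 ≠ a := by simpa [pt] using hx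
  refine ⟨by rw [h2]; exact X.pair_pos hne, Or.inr ?_⟩
  rw [h1, h2]
  set K := (cl p G (insert (pt x a 1) {a})).erase a with hK
  refine ⟨span (DD (G := G) p {a}) K, inv_span _ _, ?_, subset_span _ _ ?_, ?_, ?_⟩
  · rw [X.cl_single, Finset.disjoint_singleton_right, mem_span]
    rintro ⟨d, hd, k, hk, e⟩
    refine (Finset.mem_erase.1 hk).1 (MulAction.injective d ?_)
    show d • k = d • a
    rw [← e, DD_fix hd (subset_cl (Finset.mem_singleton_self a))]
  · exact Finset.mem_erase.2 ⟨hne, subset_cl (Finset.mem_insert_self _ _)⟩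
  · intro u hu
    obtain ⟨d, hd, k, hk, rfl⟩ := mem_span.1 hu
    obtain ⟨hka, hk⟩ := Finset.mem_erase.1 hk
    refine ⟨d, hd, ?_⟩
    have hda := DD_fix hd (subset_cl (Finset.mem_singleton_self a))
    rw [show insert (d • k) ({a} : Finset Ω) = tr d (insert k {a}) by
      rw [tr_insert, tr, Finset.image_singleton, hda], cl_tr]
    congr 1
    refine cl_congr (Finset.eq_of_subset_of_card_le ?_ ?_).symm
    · refine fun Q hQ => mem_SS.2 (Finset.insert_subset_iff.2 ⟨mem_cl.1 hk Q hQ, ?_⟩)
      exact fun z hz => mem_SS.1 hQ (Finset.mem_insert_of_mem hz)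
    · have e1 := X.pair hka
      have e2 := X.pair hne
      have h2 := (Fact.out : p.Prime).two_le
      have : (2 * (p : ℤ) - 1) ≠ 0 := by omega
      have := mul_left_cancel₀ this (e1.trans e2.symm)
      exact le_of_eq (by exact_mod_cast this)
  · intro Q hQ
    set U := span (DD (G := G) p {a}) K
    have hs : 0 < (SS (G := G) (p := p) ({a} : Finset Ω)).card := Finset.card_pos.2 ⟨Q, hQ⟩
    have hd := congrArg (fun m : ℕ => (m : ℤ)) (double_count (inv_span {a} K) hQ)
    simp only [Nat.cast_sum, Nat.cast_mul] at hd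
    have hsum : ∑ u ∈ U, (2 * (p : ℤ) - 1) * (SS (G := G) (p := p) (insert u {a} : Finset Ω)).card =
        ∑ _u ∈ U, ((p : ℤ) - 1) * (SS (G := G) (p := p) ({a} : Finset Ω)).card := by
      refine Finset.sum_congr rfl fun u hu => X.pair ?_
      rintro rfl
      obtain ⟨d, hd', k, hk, e⟩ := mem_span.1 hu
      refine (Finset.mem_erase.1 hk).1 (MulAction.injective d ?_)
      show d • k = d • u
      rw [← e, DD_fix hd' (subset_cl (Finset.mem_singleton_self u))]
    rw [← Finset.mul_sum, hd, Finset.sum_const, nsmul_eq_mul] at hsum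
    have hs' : ((SS (G := G) (p := p) ({a} : Finset Ω)).card : ℤ) * wt Q U = 0 := by
      rw [wt]; linarith
    rcases mul_eq_zero.1 hs' with e | e
    · exfalso; omega
    · rw [e]; simp

theorem Bad.good_step {x : G} {a : Ω} {i : ℕ} (hi : 1 ≤ i) (hip : i + 2 ≤ p) (h : Good p x a i) :
    Good p x a (i + 1) := by
  classical
  obtain ⟨hpos, h⟩ := h
  set C := seg x a (i + 1) with hC
  set C0 := tr x (seg x a i) with hC0
  set w := pt x a (i + 1) with hw
  have hC0C : C0 ⊆ C := tr_seg_subset x a i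
  have hseg : seg x a (i + 1 + 1) = insert w C := seg_succ x a (i + 1)
  by_cases hwL : w ∈ cl p G C
  · refine ⟨?_, Or.inl hwL⟩
    rw [hseg]
    have : SS (G := G) (p := p) C ⊆ SS (insert w C) := fun Q hQ =>
      mem_SS.2 (Finset.insert_subset_iff.2 ⟨mem_cl.1 hwL Q hQ, mem_SS.1 hQ⟩)
    exact hpos.trans_le (Finset.card_le_card this)
  rcases h with h | ⟨U₀, hinv₀, hdis₀, hmem₀, hcls₀, hwt₀⟩
  · refine absurd ?_ hwL
    have : x • pt x a i ∈ tr x (cl p G (seg x a i)) := Finset.mem_image_of_mem _ h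
    rw [← cl_tr, ← hC0] at this
    have hxw : x • pt x a i = w := by simp [hw, pt, pow_succ', mul_smul]
    exact cl_mono hC0C (hxw ▸ this)
  -- translate the state
  set U := tr x U₀ with hU
  set P := insert w C0 with hP
  have hP' : P = tr x C := insert_tr_seg x a i
  have hinv : Inv p G C0 U := by
    intro d hd z hz
    rw [hU, mem_tr] at hz ⊢
    have := hinv₀ _ (mem_DD_tr hd) _ hz
    rwa [← mul_smul, mul_assoc, mul_inv_cancel, mul_one, mul_smul] at this
  have hdis : Disjoint U (cl p G C0) := by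
    rw [hU, hC0, cl_tr, Finset.disjoint_image (MulAction.injective x)]; exact hdis₀
  have hwU : w ∈ U := by
    rw [hU, mem_tr, hw, pt, pow_succ', mul_smul, inv_smul_smul]; exact hmem₀
  have hcls : ∀ u ∈ U, ∃ d ∈ DD (G := G) p C0, cl p G (insert u C0) = tr d (cl p G P) := by
    intro u hu
    rw [hU, mem_tr] at hu
    obtain ⟨d, hd, e⟩ := hcls₀ _ hu
    refine ⟨x * d * x⁻¹, conj_mem_DD hd, ?_⟩
    have e' := congrArg (tr x) e
    rw [← cl_tr, tr_insert, smul_inv_smul, ← hC0] at e'
    rw [e', hP', cl_tr]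
    ext z
    simp only [mem_tr, mul_inv_rev, inv_inv, mul_smul, smul_inv_smul, inv_smul_smul, hC]
  set m := (cl p G P ∩ U).card with hm
  have hm0 : (cl p G (seg x a (i + 1)) ∩ U₀).card = m := by
    rw [hm, hP', cl_tr, hU, ← tr_inter, card_tr]
  have hm1 : 1 ≤ m := Finset.card_pos.2 ⟨w, Finset.mem_inter.2 ⟨subset_cl (Finset.mem_insert_self _ _), hwU⟩⟩
  have hwt : ∀ Q ∈ SS (G := G) (p := p) C0, wt Q U ≤ (p : ℤ) * ((i : ℤ) - 1) * m := by
    intro Q hQ
    have hQ' : x⁻¹ • Q ∈ SS (G := G) (p := p) (seg x a i) := by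
      rw [← smul_inv_smul x Q, hC0, mem_SS_tr] at hQ; exact hQ
    have := hwt₀ _ hQ'
    rw [hm0] at this
    refine le_trans (le_of_eq ?_) this
    have e : U ∩ fx Q = tr x (U₀ ∩ fx (x⁻¹ • Q)) := by
      ext z
      simp only [Finset.mem_inter, hU, mem_tr, fx_smul_iff]
    rw [wt, wt, e, card_tr, card_tr]
  have hcardU : ∀ u ∈ U, (SS (G := G) (p := p) (insert u C0)).card = (SS (G := G) (p := p) P).card := by
    intro u hu
    obtain ⟨d, -, e⟩ := hcls u hu
    rw [← SS_cl (A := insert u C0), e, card_SS_tr, SS_cl]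
  have hPC : (SS (G := G) (p := p) P).card = (SS (G := G) (p := p) C).card := by rw [hP', card_SS_tr]
  have hclass : ∀ u ∈ U, (cl p G (insert u C0) ∩ U).card = m := by
    intro u hu
    obtain ⟨d, hd, e⟩ := hcls u hu
    have : tr d U = U := by
      ext z
      rw [mem_tr]
      refine ⟨fun hz => ?_, fun hz => hinv _ (inv_mem hd) _ hz⟩
      have := hinv d hd _ hz
      rwa [smul_inv_smul] at this
    rw [e, hm]
    conv_lhs => rw [← this, ← tr_inter, card_tr]
  have hsame : ∀ u ∈ U, ∀ v ∈ U, u ∈ cl p G (insert v C0) → cl p G (insert u C0) = cl p G (insert v C0) := by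
    intro u hu v hv huv
    refine cl_congr (Finset.eq_of_subset_of_card_le (fun Q hQ => ?_) ?_).symm
    · exact mem_SS.2 (Finset.insert_subset_iff.2 ⟨mem_cl.1 huv Q hQ,
        fun z hz => mem_SS.1 hQ (Finset.mem_insert_of_mem hz)⟩)
    · rw [hcardU u hu, hcardU v hv]
  set L := cl p G C with hL
  set K := cl p G P ∩ U with hK
  have hKL : ∀ k ∈ K, k ∉ L := by
    intro k hk hkL
    obtain ⟨hkP, hkU⟩ := Finset.mem_inter.1 hk
    have e1 := hsame k hkU w hwU hkP
    have e2 : SS (G := G) (p := p) C = SS (insert k C0) := by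
      refine Finset.eq_of_subset_of_card_le (fun Q hQ => ?_) (by rw [hcardU k hkU, hPC])
      exact mem_SS.2 (Finset.insert_subset_iff.2 ⟨mem_cl.1 hkL Q hQ, fun z hz => mem_SS.1 hQ (hC0C hz)⟩)
    have : w ∈ cl p G (insert k C0) := by rw [e1]; exact subset_cl (Finset.mem_insert_self _ _)
    rw [← cl_congr e2] at this
    exact hwL this
  have hl : (L ∩ U).card ≤ m := by
    by_cases hne : (L ∩ U).Nonempty
    · obtain ⟨z, hz⟩ := hne
      obtain ⟨hzL, hzU⟩ := Finset.mem_inter.1 hz
      have e2 : SS (G := G) (p := p) C = SS (insert z C0) := by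
        refine Finset.eq_of_subset_of_card_le (fun Q hQ => ?_) (by rw [hcardU z hzU, hPC])
        exact mem_SS.2 (Finset.insert_subset_iff.2 ⟨mem_cl.1 hzL Q hQ, fun y hy => mem_SS.1 hQ (hC0C hy)⟩)
      rw [hL, cl_congr e2, hclass z hzU]
    · rw [Finset.not_nonempty_iff_eq_empty.1 hne]; simp
  set V := span (DD (G := G) p C) K with hV
  have hVU : V ⊆ U \ L := by
    intro u hu
    obtain ⟨d, hd, k, hk, rfl⟩ := mem_span.1 hu
    rw [Finset.mem_sdiff]
    refine ⟨hinv d (DD_anti hC0C hd) k (Finset.mem_inter.1 hk).2, fun hdk => hKL k hk ?_⟩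
    have := DD_fix (inv_mem hd) hdk
    rw [inv_smul_smul] at this
    rw [this]; exact hdk
  have hVL : Disjoint V L := Finset.disjoint_left.2 fun u hu => (Finset.mem_sdiff.1 (hVU hu)).2
  have hclsV : ∀ u ∈ V, ∃ d ∈ DD (G := G) p C, cl p G (insert u C) = tr d (cl p G (insert w C)) := by
    intro u hu
    obtain ⟨d, hd, k, hk, rfl⟩ := mem_span.1 hu
    obtain ⟨hkP, hkU⟩ := Finset.mem_inter.1 hk
    refine ⟨d, hd, ?_⟩
    have hdC : tr d C = C := tr_eq_self fun z hz => DD_fix hd (subset_cl hz)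
    have e1 : insert (d • k) C = tr d (insert k C) := by rw [tr_insert, hdC]
    rw [e1, cl_tr]
    congr 1
    refine cl_congr ?_
    have e2 := hsame k hkU w hwU hkP
    have e3 : SS (G := G) (p := p) (insert k C0) = SS P := by
      rw [← SS_cl (A := insert k C0), e2, SS_cl]
    ext Q
    have hiff : Q ∈ SS (insert k C0) ↔ Q ∈ SS P := by rw [e3]
    simp only [mem_SS, hP, Finset.insert_subset_iff] at hiff ⊢
    exact ⟨fun h => ⟨(hiff.1 ⟨h.1, hC0C.trans h.2⟩).1, h.2⟩, fun h => ⟨(hiff.2 ⟨h.1, hC0C.trans h.2⟩).1, h.2⟩⟩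
  obtain ⟨Q, hQ⟩ := Finset.card_pos.1 hpos
  have hQ0 : Q ∈ SS (G := G) (p := p) C0 := SS_anti hC0C hQ
  have hCne : C.Nonempty := ⟨pt x a 0, Finset.mem_image_of_mem _ (Finset.mem_range.2 (by omega))⟩
  have bound : ∀ R ∈ SS (G := G) (p := p) C, wt R V ≤ (p : ℤ) * i * m := by
    intro R hR
    have hR0 : R ∈ SS (G := G) (p := p) C0 := SS_anti hC0C hR
    have hLinv : ∀ d ∈ DD (G := G) p C, ∀ z ∈ L, d • z = z := fun d hd z hz => DD_fix hd hz
    have hinv' : Inv p G C ((U \ L) \ V) := by
      intro d hd z hz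
      obtain ⟨hz1, hzV⟩ := Finset.mem_sdiff.1 hz
      obtain ⟨hzU, hzL⟩ := Finset.mem_sdiff.1 hz1
      refine Finset.mem_sdiff.2 ⟨Finset.mem_sdiff.2 ⟨hinv d (DD_anti hC0C hd) z hzU, fun h => hzL ?_⟩, fun h => hzV ?_⟩
      · have := hLinv _ (inv_mem hd) _ h
        rw [inv_smul_smul] at this; rw [this]; exact h
      · have := inv_span C K _ (inv_mem hd) _ h
        rwa [inv_smul_smul] at this
    have h0 : 0 ≤ wt R ((U \ L) \ V) := wt_nonneg X.ih X.proper hCne hR hinv'
      (Finset.disjoint_left.2 fun z hz => (Finset.mem_sdiff.1 (Finset.mem_sdiff.1 hz).1).2)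
    have e1 := wt_split (Q := R) hVU
    have e2 := wt_split (Q := R) (Finset.inter_subset_right : L ∩ U ⊆ U)
    rw [show U \ (L ∩ U) = U \ L by ext z; simp] at e2
    have e3 : wt R (L ∩ U) = -(p : ℤ) * (L ∩ U).card := by
      rw [wt, Finset.inter_eq_left.2 (fun z hz => mem_cl.1 (Finset.mem_inter.1 hz).1 R hR)]; ring
    have e4 := hwt R hR0
    have hl' : ((L ∩ U).card : ℤ) ≤ m := by exact_mod_cast hl
    have hp : (0 : ℤ) ≤ p := by positivity
    nlinarith
  have hKV : K ⊆ V := subset_span _ _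
  have hm' : m ≤ (cl p G (insert w C) ∩ V).card := by
    refine Finset.card_le_card fun k hk => Finset.mem_inter.2 ⟨?_, hKV hk⟩
    exact cl_mono (Finset.insert_subset_insert _ hC0C) (Finset.mem_inter.1 hk).1
  refine ⟨?_, Or.inr ⟨V, inv_span C K, hVL, hKV (Finset.mem_inter.2 ⟨subset_cl (Finset.mem_insert_self _ _), hwU⟩),
    by rw [hseg]; exact hclsV, fun R hR => ?_⟩⟩
  · rw [hseg, Nat.pos_iff_ne_zero]
    intro hzero
    have hnofix : ∀ u ∈ V, u ∉ fx Q := by
      intro u hu huQ
      obtain ⟨d, -, e⟩ := hclsV u hu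
      have hin : Q ∈ SS (insert u C) := mem_SS.2 (Finset.insert_subset_iff.2 ⟨huQ, mem_SS.1 hQ⟩)
      have := Finset.card_pos.2 ⟨Q, hin⟩
      rw [← SS_cl (A := insert u C), e, card_SS_tr, SS_cl, hzero] at this
      exact absurd this (lt_irrefl 0)
    have hwtV : wt Q V = ((p : ℤ) - 1) * V.card := by
      rw [wt, show V ∩ fx Q = ∅ from Finset.eq_empty_iff_forall_notMem.2 fun u hu =>
        hnofix u (Finset.mem_inter.1 hu).1 (Finset.mem_inter.1 hu).2]
      simp
    -- translates of the class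
    set T : Finset (Finset Ω) := (Finset.univ.filter fun g : Finset Ω => ∃ q ∈ (Q : Subgroup G), g = tr q K) with hT
    have hTsub : ∀ g ∈ T, g ⊆ V ∧ g.card = m := by
      intro g hg
      obtain ⟨q, hq, rfl⟩ := (Finset.mem_filter.1 hg).2
      refine ⟨fun z hz => ?_, by rw [card_tr]⟩
      obtain ⟨k, hk, rfl⟩ := Finset.mem_image.1 hz
      exact mem_span.2 ⟨q, le_DD hQ hq, k, hk, rfl⟩
    have hTcls : ∀ g ∈ T, ∀ z ∈ g, g = cl p G (insert z C0) ∩ U := by
      intro g hg z hz
      obtain ⟨q, hq, rfl⟩ := (Finset.mem_filter.1 hg).2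
      have hqD : q ∈ DD (G := G) p C0 := le_DD hQ0 hq
      obtain ⟨k, hk, rfl⟩ := Finset.mem_image.1 hz
      obtain ⟨hkP, hkU⟩ := Finset.mem_inter.1 hk
      have hqC0 : tr q C0 = C0 := tr_eq_self fun y hy => DD_fix hqD (subset_cl hy)
      have hqU : tr q U = U := by
        ext y
        rw [mem_tr]
        refine ⟨fun hy => ?_, fun hy => hinv _ (inv_mem hqD) _ hy⟩
        have := hinv q hqD _ hy
        rwa [smul_inv_smul] at this
      have e : cl p G (insert (q • k) C0) = tr q (cl p G P) := by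
        rw [show insert (q • k) C0 = tr q (insert k C0) by rw [tr_insert, hqC0], cl_tr, hsame k hkU w hwU hkP]
      rw [e, hK, tr_inter, hqU]
    have hcover : T.card * m ≤ V.card := by
      have hdisj : (T : Set (Finset Ω)).PairwiseDisjoint id := by
        intro g hg g' hg' hne
        rw [Function.onFun, id, id, Finset.disjoint_left]
        intro z hz hz'
        exact hne ((hTcls g hg z hz).trans (hTcls g' hg' z hz').symm)
      have := Finset.card_le_card (Finset.biUnion_subset.2 (fun g hg => (hTsub g hg).1) : T.biUnion id ⊆ V)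
      rw [Finset.card_biUnion hdisj] at this
      simp only [id] at this
      rwa [Finset.sum_const_nat (fun g hg => (hTsub g hg).2)] at this
    have hTp : p ≤ T.card := by
      letI : MulAction G (Finset Ω) :=
        { smul := fun g s => tr g s
          one_smul := fun s => by show tr (1 : G) s = s; simp [tr]
          mul_smul := fun g h s => by show tr (g * h) s = tr g (tr h s); simp [tr, Finset.image_image, Function.comp_def, mul_smul] }
      have horb : Nat.card (orbit (↥(Q : Subgroup G)) K) = T.card := by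
        rw [Nat.card_eq_fintype_card, ← Set.toFinset_card]
        congr 1; ext g
        simp only [Set.mem_toFinset, hT, Finset.mem_filter, Finset.mem_univ, true_and, mem_orbit_iff]
        exact ⟨fun ⟨q, hq⟩ => ⟨q, q.2, hq.symm⟩, fun ⟨q, hq, e⟩ => ⟨⟨q, hq⟩, e.symm⟩⟩
      obtain ⟨e, he⟩ := Q.isPGroup'.card_orbit K
      rw [horb] at he
      rw [he]
      refine Nat.le_self_pow (fun e0 => ?_) p
      subst e0
      rw [pow_zero, Finset.card_eq_one] at he
      obtain ⟨g₀, hg₀⟩ := he
      have hKT : K ∈ T := Finset.mem_filter.2 ⟨Finset.mem_univ _, 1, one_mem _, by simp [tr]⟩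
      have hfixK : ∀ q ∈ (Q : Subgroup G), tr q K = K := by
        intro q hq
        have h1 : tr q K ∈ T := Finset.mem_filter.2 ⟨Finset.mem_univ _, q, hq, rfl⟩
        rw [hg₀, Finset.mem_singleton] at h1 hKT
        rw [h1, hKT]
      have hnorm : (Q : Subgroup G) ≤ Subgroup.normalizer (DD (G := G) p P : Set G) := by
        intro q hq
        have hqC0 : tr q C0 = C0 := tr_eq_self fun y hy => DD_fix (le_DD hQ0 hq) (subset_cl hy)
        have hqw : q • w ∈ K := by
          rw [← hfixK q hq]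
          exact Finset.mem_image_of_mem _ (Finset.mem_inter.2 ⟨subset_cl (Finset.mem_insert_self _ _), hwU⟩)
        have e : DD (G := G) p (tr q P) = DD (G := G) p P := by
          have : SS (G := G) (p := p) (insert (q • w) C0) = SS P := by
            rw [← SS_cl (A := insert (q • w) C0),
              hsame _ (Finset.mem_inter.1 hqw).2 w hwU (Finset.mem_inter.1 hqw).1, SS_cl]
          rw [hP, tr_insert, hqC0, DD, DD, this]
        rw [Subgroup.mem_normalizer_iff]
        refine fun d => ⟨fun hd => ?_, fun hd => ?_⟩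
        · rw [← e]; exact conj_mem_DD hd
        · rw [← e] at hd
          have := mem_DD_tr hd
          rwa [show q⁻¹ * (q * d * q⁻¹) * q = d by group] at this
      obtain ⟨R, hR⟩ : (SS (G := G) (p := p) P).Nonempty := Finset.card_pos.1 (by rw [hPC]; exact hpos)
      have hwQ : w ∈ fx Q := mem_fx.2 fun q hq => DD_fix (le_of_normalizes (le_DD hR) hnorm hq)
        (subset_cl (Finset.mem_insert_self _ _))
      exact hnofix w (hKV (Finset.mem_inter.2 ⟨subset_cl (Finset.mem_insert_self _ _), hwU⟩)) hwQ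
    have hb := bound Q hQ
    rw [hwtV] at hb
    have hVc : ((p : ℤ) * m) ≤ V.card := by exact_mod_cast (Nat.mul_le_mul_right m hTp).trans hcover
    have h1 : (i : ℤ) + 2 ≤ p := by exact_mod_cast hip
    have h2 : (1 : ℤ) ≤ m := by exact_mod_cast hm1
    have h3 := mul_le_mul_of_nonneg_left hVc (show (0 : ℤ) ≤ (p : ℤ) - 1 by omega)
    have h4 : (0 : ℤ) < ((p : ℤ) - 1 - i) * (p * m) := mul_pos (by omega) (mul_pos (by omega) (by omega))
    nlinarith
  · rw [hseg, Nat.cast_succ, add_sub_cancel_right]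
    exact (bound R hR).trans (mul_le_mul_of_nonneg_left (by exact_mod_cast hm') (by positivity))

theorem Bad.false_of {a : Ω} : False := by
  classical
  obtain ⟨Q₀, hQ₀⟩ := X.notall a
  obtain ⟨u, hu, hua⟩ := SetLike.not_le_iff_exists.1 hQ₀
  rw [mem_stabilizer_iff] at hua
  obtain ⟨N, hN⟩ := Q₀.isPGroup' ⟨u, hu⟩
  have hN' : u ^ p ^ N = 1 := by simpa using congrArg Subtype.val hN
  have hex : ∃ e, (u ^ p ^ e) • a = a := ⟨N, by rw [hN', one_smul]⟩
  obtain ⟨x, hx, hxp⟩ : ∃ x : G, x • a ≠ a ∧ x ^ p • a = a := by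
    have hspec := Nat.find_spec hex
    have hne : Nat.find hex ≠ 0 := fun e => hua (by simpa [e] using hspec)
    obtain ⟨k, hk⟩ := Nat.exists_eq_succ_of_ne_zero hne
    refine ⟨u ^ p ^ k, Nat.find_min hex (by omega), ?_⟩
    rwa [← pow_mul, ← pow_succ, ← Nat.succ_eq_add_one, ← hk]
  have hall : ∀ i, 1 ≤ i → i + 1 ≤ p → Good p x a i := by
    intro i hi
    induction i, hi using Nat.le_induction with
    | base => exact fun _ => X.good_one hx
    | succ i hi ih => exact fun hip => X.good_step hi (by omega) (ih (by omega))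
  have h2 := (Fact.out : p.Prime).two_le
  obtain ⟨hpos, -⟩ := hall (p - 1) (by omega) (by omega)
  rw [Nat.sub_add_cancel (by omega : 1 ≤ p)] at hpos
  obtain ⟨Q, hQ⟩ := Finset.card_pos.1 hpos
  have hxseg : tr x (seg x a p) = seg x a p := by
    refine Finset.eq_of_subset_of_card_le (fun z hz => ?_) (card_tr x).ge
    simp only [tr, seg, Finset.mem_image, Finset.mem_range] at hz ⊢
    obtain ⟨_, ⟨j, hj, rfl⟩, rfl⟩ := hz
    by_cases hj' : j + 1 = p
    · exact ⟨0, by omega, by rw [pt, pt, ← mul_smul, ← pow_succ', hj', hxp, pow_zero, one_smul]⟩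
    · exact ⟨j + 1, by omega, by rw [pt, pt, ← mul_smul, ← pow_succ']⟩
  have hxQ : x • Q ∈ SS (G := G) (p := p) (seg x a p) := by rw [← hxseg]; exact mem_SS_tr.2 hQ
  obtain ⟨h, hh, hhQ⟩ := conj_within (le_DD hxQ) (le_DD hQ)
  set y := h * x with hy
  have hyN : y ∈ Subgroup.normalizer ((Q : Subgroup G) : Set G) :=
    Sylow.smul_eq_iff_mem_normalizer.1 (by rw [hy, mul_smul, hhQ])
  have hyj : ∀ j : ℕ, y ^ j • a = x ^ j • a := by
    intro j
    induction j with
    | zero => simp
    | succ j ih =>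
      rw [pow_succ', mul_smul, ih, pow_succ', mul_smul, mul_smul]
      refine DD_fix hh (subset_cl ?_)
      rw [← hxseg]
      refine Finset.mem_image_of_mem _ ?_
      simp only [seg, Finset.mem_image, Finset.mem_range]
      refine ⟨j % p, Nat.mod_lt _ (by omega), ?_⟩
      rw [pt]
      have hfix : ∀ t : ℕ, (x ^ p) ^ t • a = a := fun t => by
        induction t with
        | zero => simp
        | succ t iht => rw [pow_succ, mul_smul, hxp, iht]
      conv_rhs => rw [← Nat.mod_add_div j p, pow_add, pow_mul, mul_smul, hfix]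
  haveI hnormal : ((Q : Subgroup G).subgroupOf (Subgroup.normalizer ((Q : Subgroup G) : Set G))).Normal :=
    Subgroup.normal_in_normalizer
  set r := ((Q : Subgroup G).subgroupOf (Subgroup.normalizer ((Q : Subgroup G) : Set G))).index
  have hr : ¬ p ∣ r := by
    haveI : (Q.subtype Subgroup.le_normalizer : Sylow p ↥(Subgroup.normalizer ((Q : Subgroup G) : Set G))).Normal := by
      show ((Q : Subgroup G).subgroupOf _).Normal
      exact hnormal
    exact (Q.subtype Subgroup.le_normalizer).not_dvd_index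
  have hyr : y ^ r ∈ (Q : Subgroup G) :=
    Subgroup.pow_index_mem ((Q : Subgroup G).subgroupOf (Subgroup.normalizer ((Q : Subgroup G) : Set G))) ⟨y, hyN⟩
  have haQ : a ∈ fx Q := mem_SS.1 hQ (by
    simp only [seg, Finset.mem_image, Finset.mem_range]
    exact ⟨0, by omega, by simp [pt]⟩)
  have hxr : x ^ r • a = a := by rw [← hyj r]; exact mem_fx.1 haQ hyr
  have hcop : r.Coprime p := ((Fact.out : p.Prime).coprime_iff_not_dvd.2 hr).symm
  have h1 : x ∈ stabilizer G a := by
    have m1 : x ^ r ∈ stabilizer G a := hxr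
    have m2 : x ^ p ∈ stabilizer G a := hxp
    have hb := Nat.gcd_eq_gcd_ab r p
    rw [hcop.gcd_eq_one, Nat.cast_one] at hb
    rw [← zpow_one x, hb, zpow_add, zpow_mul, zpow_mul, zpow_natCast, zpow_natCast]
    exact mul_mem (zpow_mem m1 _) (zpow_mem m2 _)
  exact hx h1

end Cfsg.Agent.SylFix
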