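import Mathlib
import Cfsg.Agent.Lib.Recog.SylFix.Chain

/-! The number of Sylow subgroups of a subgroup, and fixed points of a Sylow subgroup. -/

set_option autoImplicit false
set_option linter.unusedSectionVars false
set_option maxHeartbeats 1000000

namespace Cfsg.Agent.SylFix

open MulAction

universe u

/-- Sylow subgroups of `K` inside a given subgroup of the ambient group. -/
theorem card_sylow_sub_and {G : Type u} [Group G] [Finite G] {p : ℕ} [Fact p.Prime] {K : Subgroup G}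
    {R : Sylow p G} (hR : (R : Subgroup G) ≤ K) (H : Subgroup G) :
    Nat.card {T : Sylow p ↥K // (T : Subgroup ↥K) ≤ H.subgroupOf K} =
      Nat.card {Q : Sylow p G // (Q : Subgroup G) ≤ K ∧ (Q : Subgroup G) ≤ H} := by
  symm
  refine Nat.card_eq_of_bijective (fun Q : {Q : Sylow p G // (Q : Subgroup G) ≤ K ∧ (Q : Subgroup G) ≤ H} =>
    ⟨Q.1.subtype Q.2.1, fun x hx => ?_⟩) ⟨?_, ?_⟩
  · exact Q.2.2 (show (x : G) ∈ (Q.1 : Subgroup G) from hx)
  · rintro ⟨Q, hQ⟩ ⟨Q', hQ'⟩ h
    exact Subtype.ext (Sylow.subtype_injective (hP := hQ.1) (hQ := hQ'.1) (congrArg Subtype.val h))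
  · rintro ⟨T, hT⟩
    obtain ⟨k, hk⟩ := MulAction.exists_smul_eq (↥K) (R.subtype hR) T
    rw [Sylow.smul_subtype] at hk
    have h1 : ((k • R : Sylow p G) : Subgroup G) ≤ K := Sylow.smul_le hR k
    refine ⟨⟨k • R, h1, fun q hq => ?_⟩, Subtype.ext hk⟩
    exact hT (show (⟨q, h1 hq⟩ : ↥K) ∈ (T : Subgroup ↥K) by rw [← hk]; exact hq)

/-- Sylow subgroups outside a subgroup: at most the proportion `(p-1)/(2p-1)` lies inside it. -/
theorem sylow_count (p : ℕ) [Fact p.Prime] : ∀ (m : ℕ) (G : Type u) [Group G] [Finite G], Nat.card G = m →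
    ∀ H : Subgroup G, (∃ Q : Sylow p G, ¬ (Q : Subgroup G) ≤ H) →
      (2 * p - 1) * Nat.card {Q : Sylow p G // (Q : Subgroup G) ≤ H} ≤ (p - 1) * Nat.card (Sylow p G) := by
  intro m
  induction m using Nat.strong_induction_on with
  | _ m ih => ?_
  intro G _ _ hm H hH
  classical
  have IH : IHyp p G := by
    intro K H' hK hQ
    obtain ⟨Q, hQK, hQH⟩ := hQ
    have hlt : Nat.card K < m := by
      rw [← hm]
      exact lt_of_le_of_ne (Subgroup.card_le_card_group K) fun e => hK (Subgroup.eq_top_of_card_eq K e)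
    have := ih _ hlt ↥K rfl (H'.subgroupOf K) ⟨Q.subtype hQK, fun h => hQH fun q hq => by
      have := h (show (⟨q, hQK hq⟩ : ↥K) ∈ ((Q.subtype hQK : Sylow p ↥K) : Subgroup ↥K) from hq)
      exact this⟩
    rwa [card_sylow_sub hQK, card_sylow_sub_and hQK] at this
  by_cases hsome : ∃ Q : Sylow p G, (Q : Subgroup G) ≤ H
  swap
  · haveI : IsEmpty {Q : Sylow p G // (Q : Subgroup G) ≤ H} := ⟨fun Q => hsome ⟨Q.1, Q.2⟩⟩
    simp
  set K₀ : Subgroup G := ⨆ Q : Sylow p G, (Q : Subgroup G) with hK₀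
  by_cases hgen : K₀ = ⊤
  swap
  · obtain ⟨Q, hQ⟩ := hH
    have h := IH K₀ H hgen ⟨Q, le_iSup (fun R : Sylow p G => (R : Subgroup G)) Q, hQ⟩
    rw [Nat.card_congr (Equiv.subtypeEquivRight (fun R : Sylow p G =>
        show ((R : Subgroup G) ≤ K₀ ∧ (R : Subgroup G) ≤ H) ↔ (R : Subgroup G) ≤ H from
          ⟨And.right, fun h => ⟨le_iSup (fun R : Sylow p G => (R : Subgroup G)) R, h⟩⟩)),
      Nat.card_congr (Equiv.subtypeUnivEquiv (fun R : Sylow p G => le_iSup (fun R : Sylow p G => (R : Subgroup G)) R))] at h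
    exact h
  obtain ⟨M, ⟨hHM, hMnot⟩, hMmax⟩ := Set.Finite.exists_maximalFor id
    {L : Subgroup G | H ≤ L ∧ ∃ Q : Sylow p G, ¬ (Q : Subgroup G) ≤ L} (Set.toFinite _) ⟨H, le_rfl, hH⟩
  have hcoatom : IsCoatom M := by
    refine ⟨fun e => ?_, fun L hL => ?_⟩
    · obtain ⟨Q, hQ⟩ := hMnot; exact hQ (e ▸ le_top)
    · by_contra hne
      refine hne (top_unique (hgen ▸ iSup_le fun Q => ?_))
      by_contra hQ
      exact hL.not_ge (hMmax ⟨hHM.trans hL.le, Q, hQ⟩ hL.le)
  refine le_trans (Nat.mul_le_mul_left _ (Nat.card_le_card_of_injective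
    (fun Q : {Q : Sylow p G // (Q : Subgroup G) ≤ H} =>
      (⟨Q.1, Q.2.trans hHM⟩ : {Q : Sylow p G // (Q : Subgroup G) ≤ M}))
    (fun a b e => Subtype.ext (by simpa using congrArg Subtype.val e)))) ?_
  letI : Fintype (G ⧸ M) := Fintype.ofFinite _
  letI : Fintype (Sylow p G) := Fintype.ofFinite _
  set a₀ : G ⧸ M := ((1 : G) : G ⧸ M)
  have hst : stabilizer G a₀ = M := MulAction.stabilizer_quotient M
  have hconj : ∀ a : G ⧸ M, ∃ g : G, g • a₀ = a := fun a => exists_smul_eq G a₀ a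
  by_contra hbad
  have X : Bad p G (G ⧸ M) := by
    refine ⟨IH, inferInstance, fun a => ?_, fun a => ?_, fun a => ?_, fun Q => ?_⟩
    · obtain ⟨g, rfl⟩ := hconj a
      rw [stabilizer_smul_eq_stabilizer_map_conj, hst]
      exact (OrderIso.isCoatom_iff (MulAut.conj g).mapSubgroup M).2 hcoatom
    · obtain ⟨g, rfl⟩ := hconj a
      obtain ⟨Q, hQ⟩ := hMnot
      refine ⟨g • Q, fun h => hQ ?_⟩
      have := mem_fx.1 (fx_smul_iff.1 (mem_fx.2 h) : a₀ ∈ fx Q)
      rwa [hst] at this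
    · obtain ⟨g, rfl⟩ := hconj a
      obtain ⟨Q, hQ⟩ := hsome
      exact ⟨g • Q, mem_fx.1 (smul_mem_fx (mem_fx.2 (by rw [hst]; exact hQ.trans hHM)))⟩
    · have hinv : Inv p G (∅ : Finset (G ⧸ M)) Finset.univ := fun _ _ _ _ => Finset.mem_univ _
      have hQe : Q ∈ SS (∅ : Finset (G ⧸ M)) := mem_SS.2 (Finset.empty_subset _)
      have hd := double_count hinv hQe
      have hs : ∀ a : G ⧸ M, (SS (G := G) (p := p) (insert a (∅ : Finset (G ⧸ M)))).card =
          Nat.card {Q : Sylow p G // (Q : Subgroup G) ≤ M} := by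
        intro a
        obtain ⟨g, rfl⟩ := hconj a
        rw [show insert (g • a₀) (∅ : Finset (G ⧸ M)) = tr g {a₀} by simp [tr], card_SS_tr,
          Nat.card_eq_fintype_card, Fintype.card_subtype]
        congr 1; ext R
        simp [mem_SS, mem_fx, hst]
      rw [Finset.sum_congr rfl (fun a _ => hs a), Finset.sum_const, Finset.card_univ, smul_eq_mul,
        Finset.univ_inter] at hd
      have hall : (SS (G := G) (p := p) (∅ : Finset (G ⧸ M))).card = Nat.card (Sylow p G) := by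
        rw [Nat.card_eq_fintype_card, ← Finset.card_univ]
        congr 1; ext R; simp [mem_SS]
      rw [hall] at hd
      have hp : 1 ≤ p := (Fact.out : p.Prime).one_lt.le
      have hN : 0 < Nat.card (Sylow p G) := Nat.card_pos
      have hn : 0 < Fintype.card (G ⧸ M) := Fintype.card_pos
      rw [not_le] at hbad
      by_contra hle
      rw [not_lt] at hle
      have h1 : (2 * p - 1) * (fx (Ω := G ⧸ M) Q).card ≤ (p - 1) * Fintype.card (G ⧸ M) := by
        zify [hp, (by omega : 1 ≤ 2 * p)]; exact hle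
      have h2 := Nat.mul_lt_mul_of_pos_left hbad hn
      have h3 : Fintype.card (G ⧸ M) * ((2 * p - 1) * Nat.card {Q : Sylow p G // (Q : Subgroup G) ≤ M}) =
          Nat.card (Sylow p G) * ((2 * p - 1) * (fx (Ω := G ⧸ M) Q).card) := by
        rw [Nat.mul_left_comm, hd, Nat.mul_left_comm]
      rw [h3] at h2
      have h4 := Nat.mul_le_mul_left (Nat.card (Sylow p G)) h1
      rw [Nat.mul_left_comm (Nat.card (Sylow p G)) (p - 1), Nat.mul_left_comm (Fintype.card (G ⧸ M)) (p - 1)] at *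
      rw [Nat.mul_comm (Fintype.card (G ⧸ M)) (Nat.card (Sylow p G))] at h2
      omega
  exact X.false_of (a := a₀)

/-- A Sylow subgroup fixes at most the proportion `(p-1)/(2p-1)` of the points. -/
theorem fixed_bound {G : Type u} [Group G] [Finite G] {Ω : Type*} [MulAction G Ω] [FaithfulSMul G Ω] [Fintype Ω]
    [IsPretransitive G Ω] {p : ℕ} [Fact p.Prime] (hpG : p ∣ Nat.card G) (P : Sylow p G) :
    (2 * p - 1) * (fx (Ω := Ω) P).card ≤ (p - 1) * Fintype.card Ω := by
  classical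
  letI : Fintype (Sylow p G) := Fintype.ofFinite _
  rcases isEmpty_or_nonempty Ω with hΩ | ⟨⟨a⟩⟩
  · simp [Finset.eq_empty_of_isEmpty (fx (Ω := Ω) P)]
  have hout : ∃ Q : Sylow p G, ¬ (Q : Subgroup G) ≤ stabilizer G a := by
    by_contra hc
    push Not at hc
    have hall : ∀ z : Ω, ∀ q ∈ (P : Subgroup G), q • z = z := by
      intro z q hq
      obtain ⟨g, rfl⟩ := exists_smul_eq G a z
      have := smul_mem_fx (g := g) (mem_fx.2 (hc (g⁻¹ • P)))
      rw [smul_inv_smul] at this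
      exact mem_fx.1 this hq
    have hbot : (P : Subgroup G) = ⊥ := (Subgroup.eq_bot_iff_forall _).2 fun q hq =>
      FaithfulSMul.eq_of_smul_eq_smul (α := Ω) fun z => by rw [hall z q hq, one_smul]
    exact P.ne_bot_of_dvd_card hpG hbot
  have h := sylow_count p _ G rfl (stabilizer G a) hout
  have hinv : Inv p G (∅ : Finset Ω) Finset.univ := fun _ _ _ _ => Finset.mem_univ _
  have hPe : P ∈ SS (∅ : Finset Ω) := mem_SS.2 (Finset.empty_subset _)
  have hd := double_count hinv hPe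
  have hs : ∀ z : Ω, (SS (G := G) (p := p) (insert z (∅ : Finset Ω))).card =
      Nat.card {Q : Sylow p G // (Q : Subgroup G) ≤ stabilizer G a} := by
    intro z
    obtain ⟨g, rfl⟩ := exists_smul_eq G a z
    rw [show insert (g • a) (∅ : Finset Ω) = tr g {a} by simp [tr], card_SS_tr,
      Nat.card_eq_fintype_card, Fintype.card_subtype]
    congr 1; ext R
    simp [mem_SS, mem_fx]
  rw [Finset.sum_congr rfl (fun z _ => hs z), Finset.sum_const, Finset.card_univ, smul_eq_mul,
    Finset.univ_inter] at hd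
  have hall : (SS (G := G) (p := p) (∅ : Finset Ω)).card = Nat.card (Sylow p G) := by
    rw [Nat.card_eq_fintype_card, ← Finset.card_univ]
    congr 1; ext R; simp [mem_SS]
  rw [hall] at hd
  have h2 := Nat.mul_le_mul_left (Fintype.card Ω) h
  rw [Nat.mul_left_comm, hd, Nat.mul_left_comm] at h2
  refine Nat.le_of_mul_le_mul_left ?_ (Nat.card_pos (α := Sylow p G))
  refine h2.trans (le_of_eq ?_)
  ring

end Cfsg.Agent.SylFix
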